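import Mathlib.GroupTheory.RegularWreathProduct
import Mathlib.GroupTheory.Solvable
import Mathlib.GroupTheory.QuotientGroup.Basic
import Mathlib.GroupTheory.SpecificGroups.Cyclic
import Mathlib.GroupTheory.Subgroup.Simple

/-!
Kaloujnine-Krasner embedding, and an induction principle for finite solvable groups.
-/

set_option autoImplicit false

namespace CfsgLib.WreathEmbed

universe u v

/-- The Kaloujnine-Krasner map into the wreath product of a normal subgroup by the quotient. -/
noncomputable def embed {G : Type u} [Group G] (N : Subgroup G) [N.Normal] :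
    G →* RegularWreathProduct N (G ⧸ N) where
  toFun g := ⟨fun x => ⟨x.out⁻¹ * g * ((g : G ⧸ N)⁻¹ * x).out, by
    rw [← QuotientGroup.eq_one_iff]; simp [mul_assoc]⟩, g⟩
  map_one' := by
    ext x <;> simp
  map_mul' g h := by
    ext x
    · simp [mul_assoc]
    · simp

theorem embed_injective {G : Type u} [Group G] (N : Subgroup G) [N.Normal] :
    Function.Injective (embed N) := by
  rw [injective_iff_map_eq_one]
  intro g hg
  have h2 : (g : G ⧸ N) = 1 := congrArg RegularWreathProduct.right hg
  have h1 := congrFun (congrArg RegularWreathProduct.left hg) (1 : G ⧸ N)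
  have h3 := congrArg Subtype.val h1
  simp only [embed, MonoidHom.coe_mk, OneHom.coe_mk, RegularWreathProduct.one_left, Pi.one_apply,
    Subgroup.coe_one, h2, inv_one, one_mul] at h3
  rw [mul_assoc, inv_mul_eq_one] at h3
  exact mul_eq_right.1 h3.symm

/-- Functoriality in the base group. -/
def mapLeft {D D' : Type*} (Q : Type*) [Group D] [Group D'] [Group Q] (f : D →* D') :
    RegularWreathProduct D Q →* RegularWreathProduct D' Q where
  toFun w := ⟨fun x => f (w.left x), w.right⟩
  map_one' := by ext <;> simp
  map_mul' a b := by ext <;> simp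

theorem mapLeft_injective {D D' : Type*} (Q : Type*) [Group D] [Group D'] [Group Q] (f : D →* D')
    (hf : Function.Injective f) : Function.Injective (mapLeft Q f) := fun a b h => by
  ext x
  · exact hf (congrFun (congrArg RegularWreathProduct.left h) x)
  · have h' := congrArg RegularWreathProduct.right h
    exact h'

/-- A nontrivial finite solvable group has a normal subgroup of prime index. -/
theorem exists_normal_prime_index {G : Type u} [Group G] [Finite G] [Nontrivial G]
    (hsolv : Group.IsSolvable G) : ∃ N : Subgroup G, N.Normal ∧ N.index.Prime := by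
  obtain ⟨N, hN, hmax⟩ := Finite.exists_le_maximal
    (p := fun N : Subgroup G => N.Normal ∧ N ≠ ⊤) (a := ⊥) ⟨inferInstance, bot_ne_top⟩
  have hn : N.Normal := hmax.1.1
  refine ⟨N, hn, ?_⟩
  have : IsSolvable (G ⧸ N) :=
    solvable_of_surjective (f := QuotientGroup.mk' N) (QuotientGroup.mk'_surjective N)
  have : Nontrivial (G ⧸ N) := QuotientGroup.nontrivial_iff.2 hmax.1.2
  have hsimple : IsSimpleGroup (G ⧸ N) := ⟨fun K hK => by
    by_cases hKt : K.comap (QuotientGroup.mk' N) = ⊤
    · right
      rw [← Subgroup.map_comap_eq_self_of_surjective (QuotientGroup.mk'_surjective N) K, hKt,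
        Subgroup.map_top_of_surjective _ (QuotientGroup.mk'_surjective N)]
    · left
      have hle : N ≤ K.comap (QuotientGroup.mk' N) := fun n hn' => by
        show QuotientGroup.mk' N n ∈ K
        rw [show QuotientGroup.mk' N n = 1 from (QuotientGroup.eq_one_iff n).2 hn']
        exact K.one_mem
      have he := hmax.eq_of_ge ⟨Subgroup.Normal.comap hK _, hKt⟩ hle
      rw [eq_bot_iff]
      intro k hk
      obtain ⟨g, rfl⟩ := QuotientGroup.mk_surjective k
      have hg : g ∈ N := he.le (show g ∈ K.comap (QuotientGroup.mk' N) from hk)
      exact (QuotientGroup.eq_one_iff g).2 hg⟩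
  have hcomm : IsMulCommutative (G ⧸ N) :=
    ⟨⟨IsSimpleGroup.comm_iff_isSolvable.2 inferInstance⟩⟩
  let _ : CommGroup (G ⧸ N) :=
    { (inferInstance : Group (G ⧸ N)) with mul_comm := hcomm.is_comm.comm }
  rw [Subgroup.index_eq_card]
  exact IsSimpleGroup.prime_card

/-- Induction along wreath products with cyclic groups of prime order, up to embeddings. -/
theorem solvable_induction {P : ∀ (G : Type u) [Group G] [Finite G], Prop}
    (hbase : ∀ (G : Type u) [Group G] [Finite G] [Subsingleton G], P G)
    (hstep : ∀ (G : Type u) [Group G] [Finite G] (N : Subgroup G) [N.Normal] (p : ℕ) [Fact p.Prime]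
      (e : G ⧸ N ≃* Multiplicative (ZMod p))
      (f : G →* RegularWreathProduct N (Multiplicative (ZMod p))),
      Function.Injective f → Nat.card G = Nat.card N * p → P N → P G)
    (G : Type u) [Group G] [Finite G] (hsolv : Group.IsSolvable G) : P G := by
  suffices ∀ n : ℕ, ∀ (G : Type u) [Group G] [Finite G], Group.IsSolvable G → Nat.card G ≤ n → P G from
    this _ G hsolv le_rfl
  intro n
  induction n with
  | zero => exact fun G _ _ _ h => absurd Nat.card_pos (not_lt.2 h)
  | succ n ih =>
    intro G _ _ hs hle
    rcases subsingleton_or_nontrivial G with h | h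
    · exact hbase G
    obtain ⟨N, hN, hp⟩ := exists_normal_prime_index hs
    have : Fact N.index.Prime := ⟨hp⟩
    have hcard := N.card_mul_index
    have hc : IsCyclic (G ⧸ N) := isCyclic_of_prime_card (p := N.index) (Subgroup.index_eq_card N).symm
    let e : G ⧸ N ≃* Multiplicative (ZMod N.index) :=
      mulEquivOfCyclicCardEq (by rw [← Subgroup.index_eq_card]; simp)
    let f : G →* RegularWreathProduct N (Multiplicative (ZMod N.index)) :=
      (RegularWreathProduct.congr (MulEquiv.refl N) e).toMonoidHom.comp (embed N)
    have hf : Function.Injective f :=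
      (RegularWreathProduct.congr (MulEquiv.refl N) e).injective.comp (embed_injective N)
    refine hstep G N N.index e f hf hcard.symm (ih N inferInstance ?_)
    have h2 := hp.two_le
    have hpos : 0 < Nat.card N := Nat.card_pos
    have := Nat.mul_le_mul_left (Nat.card N) h2
    omega

end CfsgLib.WreathEmbed
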